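import Cfsg.Agent.H602.DP.Min
import Cfsg.Agent.H491.DP.Num
import Cfsg.Agent.H462.DPK.K
import Cfsg.Agent.S2141
import Cfsg.Agent.S2142
import Cfsg.Agent.S0814
import Cfsg.Agent.S0752
import Cfsg.Agent.H934.OutB

/-!
# S4247, row `PSp`, characteristic not in `π`: the case `C_V(T) = 0` (helper602)
-/

set_option autoImplicit false
set_option linter.unusedSectionVars false

namespace Cfsg.Agent.H602.DP

open Module Subgroup Cfsg Matrix Cfsg.Agent.H167.OP Cfsg.Agent.H170.HL Cfsg.Agent.H988.CPi Cfsg.Agent.H571.RV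
  Cfsg.Agent.H572.RV Cfsg.Agent.H817.DPi

universe u

theorem sum_half {l : List ℕ} (hl : ∀ d ∈ l, Even d) : (l.map fun d => d / 2).sum * 2 = l.sum := by
  induction l with
  | nil => rfl
  | cons a l ih =>
    rw [List.map_cons, List.sum_cons, List.sum_cons, add_mul, ih fun d hd => hl d (List.mem_cons_of_mem _ hd)]
    obtain ⟨b, hb⟩ := hl a List.mem_cons_self
    omega

/-- the standard form is alternating -/
theorem frm_alt {F : Type*} [Field F] {m : ℕ} (v : Fin m ⊕ Fin m → F) : SpRow.frm m F v v = 0 := by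
  rw [SpRow.frm_apply]
  have h1 : J (Fin m) F *ᵥ v = Sum.elim (fun i => - v (Sum.inr i)) (fun i => v (Sum.inl i)) := by
    funext i
    rcases i with i | i
    · simp only [J, Matrix.fromBlocks_mulVec, Sum.elim_inl, zero_mulVec, zero_add, neg_mulVec, one_mulVec]
      rfl
    · simp only [J, Matrix.fromBlocks_mulVec, Sum.elim_inr, zero_mulVec, add_zero, one_mulVec]
      rfl
  rw [h1, dotProduct, Fintype.sum_sum_type, ← Finset.sum_add_distrib]
  apply Finset.sum_eq_zero
  intro i _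
  simp only [Sum.elim_inl, Sum.elim_inr]
  ring

theorem even_of_nd {F : Type*} [Field F] {m : ℕ} {U : Submodule F (Fin m ⊕ Fin m → F)}
    (hU : ND (SpRow.frm m F) U) : Even (finrank F U) := by
  let B : LinearMap.BilinForm F U := (SpRow.frm m F).domRestrict₁₂ U U
  have hB : ∀ x y : U, B x y = SpRow.frm m F x y := fun x y => rfl
  have hA : B.IsAlt := fun x => frm_alt (x : Fin m ⊕ Fin m → F)
  obtain ⟨a, k, b, h1, h2, h3, h4⟩ := Cfsg.Agent.S0752.result B hA
  have hk : k = 0 := by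
    by_contra hk
    have h5 := h4 ⟨0, Nat.pos_of_ne_zero hk⟩
    apply b.ne_zero (Sum.inr ⟨0, Nat.pos_of_ne_zero hk⟩)
    apply Subtype.ext
    apply hU _ (b (Sum.inr ⟨0, Nat.pos_of_ne_zero hk⟩)).2
    intro x hx
    have h6 := h5 ⟨x, hx⟩
    rw [hB] at h6
    rw [SpRow.frm_sym, h6, mul_zero]
  subst hk
  rw [Module.finrank_eq_card_basis b]
  simp

theorem index_ge {S : Type*} [Group S] {F : Type*} [Field F] [Fintype F] {m : ℕ} (hm : 3 ≤ m) (e : S ≃* PSp m F)
    {B : Subgroup S} (hB : B ≠ ⊤) :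
    (3 ≤ Fintype.card F → (Fintype.card F ^ (2 * m) - 1) / (Fintype.card F - 1) ≤ B.index) ∧
      (Fintype.card F = 2 → 2 ^ (m - 1) * (2 ^ m - 1) ≤ B.index) := by
  have h1 : B.map e.toMonoidHom ≠ ⊤ := by
    intro h
    apply hB
    apply Subgroup.map_injective (f := e.toMonoidHom) e.injective
    show B.map e.toMonoidHom = Subgroup.map e.toMonoidHom ⊤
    rw [h, ← MonoidHom.range_eq_map, MonoidHom.range_eq_top.mpr e.surjective]
  have h2 : (B.map e.toMonoidHom).index = B.index :=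
    Subgroup.index_map_of_bijective (f := e.toMonoidHom) e.bijective B
  constructor
  · intro h
    have := (Cfsg.Agent.S2141.result (F := F) rfl m (by omega) h (by omega)).1 _ h1
    rwa [h2] at this
  · intro h
    have := (Cfsg.Agent.S2142.result (F := F) h m hm).1 _ h1
    rwa [h2] at this

theorem card_out {S : Type u} [Group S] [Finite S] [IsSimpleGroup S] (hna : ¬ IsMulCommutative S)
    {F : Type*} [Field F] [Fintype F] {m : ℕ} (hm : 3 ≤ m) (e : S ≃* PSp m F) {p f : ℕ} (hp : p.Prime) (hf : 1 ≤ f)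
    (hF : Fintype.card F = p ^ f) : Nat.card (Cfsg.Out S) = Nat.gcd 2 (Fintype.card F - 1) * f := by
  have := Fact.mk hp
  have h1 := Cfsg.Agent.S0814.result (F := F) p f hf hF m (by omega) (by omega)
  rw [if_neg (by omega), one_mul] at h1
  apply Cfsg.Agent.H934.OutB.card_out_of_aut hna
  rw [Nat.card_congr (MulAut.congr e).toEquiv, h1, hF, Nat.card_congr e.toEquiv]

/-- **case C** -/
theorem caseC {π : Set ℕ} {S : Type u} [Group S] [Finite S] [IsSimpleGroup S] (hna : ¬ IsMulCommutative S)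
    {F : Type} [Field F] [Fintype F] {m p : ℕ} [CharP F p] (e : S ≃* PSp m F)
    {P : Subgroup S} {K B : Subgroup (MulAut S)} (hC : Cfg π P K B)
    {H : Subgroup (symplecticGroup (Fin m) F)}
    {r t : ℕ} (hr : r.Prime) (hr3 : 3 ≤ r) (hrt : r < t) {T : Subgroup (symplecticGroup (Fin m) F)}
    (hTS : TS (rep (SpRow.inc m F)) (SpRow.frm m F) (fun _ => 0) t T)
    (hnc : ¬ H ≤ centralizer (T : Set (symplecticGroup (Fin m) F)))
    (hrel : ∀ s : ℕ, s.Prime → s ∣ (centralizer (T : Set (symplecticGroup (Fin m) F))).relIndex H → s = r)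
    {k : ℕ} (h2k : 2 * k ≤ finrank F (CV (rep (SpRow.inc m F)) T))
    (hkd : (centralizer (T : Set (symplecticGroup (Fin m) F))).relIndex H ∣ k.factorial)
    (h0 : Orth (SpRow.frm m F) (CV (rep (SpRow.inc m F)) T) = ⊥)
    -- `card_mul_le` (task M)
    (hM : ∀ K' : Subgroup S, PiN' π (Nat.card K') → (∀ x ∈ P, ∀ k ∈ K', x * k = k * x) →
      Nat.card P * Nat.card K' ≤ (centralizer (T : Set (symplecticGroup (Fin m) F))).relIndex H *
        Nat.card (centralizer (T : Set (symplecticGroup (Fin m) F))))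
    -- `exists_list` (task C)
    (hl : Inv (rep (SpRow.inc m F)) T ⊤ → ND (SpRow.frm m F) ⊤ →
      (∀ u ∈ (⊤ : Submodule F (Fin m ⊕ Fin m → F)), (∀ z ∈ T, rep (SpRow.inc m F) z u = u) → u = 0) →
      ∃ l : List ℕ, l.sum = finrank F (⊤ : Submodule F (Fin m ⊕ Fin m → F)) ∧
      (∀ d ∈ l, ∃ U' ≤ (⊤ : Submodule F (Fin m ⊕ Fin m → F)), Mn (rep (SpRow.inc m F)) (SpRow.frm m F) T U' ∧
        finrank F U' = d ∧ t ∣ Nat.card F ^ d - 1) ∧
      cnt (rep (SpRow.inc m F)) T ⊤ ≤ (l.map fun d => Nat.card F ^ (d / 2) + 1).prod) : False := by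
  classical
  set ρ := rep (SpRow.inc m F) with hρ
  set C := centralizer (T : Set (symplecticGroup (Fin m) F)) with hCd
  have hfr : finrank F (Fin m ⊕ Fin m → F) = 2 * m := by
    rw [Module.finrank_fintype_fun_eq_card, Fintype.card_sum, Fintype.card_fin]; ring
  have hkm : k ≤ m := by
    have := (CV ρ T).finrank_le
    rw [hfr] at this
    omega
  -- the index is a power of `r`
  have hrel0 : C.relIndex H ≠ 0 := ne_zero_of_dvd_ne_zero Nat.card_pos.ne' (Subgroup.relIndex_dvd_card C H)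
  have hrw := Nat.eq_prime_pow_of_unique_prime_dvd hrel0 (fun {d} hd hdv => hrel d hd hdv)
  set w := (C.relIndex H).primeFactorsList.length
  have hw : r ^ w ∣ k.factorial := by rw [← hrw]; exact hkd
  have hrel1 : C.relIndex H ≠ 1 := by
    intro h
    exact hnc (Subgroup.relIndex_eq_one.mp h)
  have hrk : r ≤ k := by
    have hw0 : w ≠ 0 := by
      intro h
      rw [h, pow_zero] at hrw
      exact hrel1 hrw
    exact (hr.dvd_factorial).mp ((dvd_pow_self r hw0).trans hw)
  have hm3 : 3 ≤ m := by omega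
  -- the list
  obtain ⟨l, hl1, hl2, hl3⟩ := hl (fun _ _ _ _ => trivial)
    (fun u _ hx => SpRow.frm_nondeg u fun y => hx y trivial) (fun u _ hz => by
      have h1 : u ∈ Orth (SpRow.frm m F) (CV ρ T) := (mem_Orth_CV hTS.toIsoG).mpr hz
      rw [h0] at h1
      exact (Submodule.mem_bot F).mp h1)
  rw [finrank_top, hfr] at hl1
  have hev : ∀ d ∈ l, Even d := by
    intro d hd
    obtain ⟨U', -, hU', rfl, -⟩ := hl2 d hd
    exact even_of_nd hU'.nd
  have hpos : ∀ d ∈ l, d ≠ 0 := by
    intro d hd h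
    obtain ⟨U', -, hU', hfd, -⟩ := hl2 d hd
    rw [h] at hfd
    obtain ⟨z, -, x, hx, hne⟩ := hU'.act
    have h1 : U' = ⊥ := Submodule.finrank_eq_zero.mp hfd
    rw [h1, Submodule.mem_bot] at hx
    rw [hx, map_zero] at hne
    exact hne rfl
  have ht5 : 5 ≤ t := by
    have h1 := hTS.hto
    obtain ⟨a, rfl⟩ := h1
    omega
  have hFc : Nat.card F = Fintype.card F := Nat.card_eq_fintype_card
  have h4 : Fintype.card F ≤ 3 → ∀ d ∈ l, d ≠ 2 := by
    intro hq d hd h
    obtain ⟨U', -, -, -, hdv⟩ := hl2 d hd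
    rw [h, hFc] at hdv
    have hq2 : 2 ≤ Fintype.card F := Fintype.one_lt_card
    rcases (show Fintype.card F = 2 ∨ Fintype.card F = 3 by omega) with h1 | h1
    · rw [h1] at hdv
      have := Nat.le_of_dvd (by norm_num) hdv
      omega
    · rw [h1] at hdv
      have h2 : t ∣ 2 ^ 3 := hdv
      have := (Nat.prime_dvd_prime_iff_eq hTS.ht Nat.prime_two).mp (hTS.ht.dvd_of_dvd_pow h2)
      omega
  set l' := l.map fun d => d / 2 with hl'
  have hsum : l'.sum = m := by
    have := sum_half hev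
    rw [hl1] at this
    rw [hl']
    omega
  have hprod : (l'.map fun a => Fintype.card F ^ a + 1).prod = (l.map fun d => Nat.card F ^ (d / 2) + 1).prod := by
    rw [hl', List.map_map, hFc]
    rfl
  have hl'1 : ∀ a ∈ l', 1 ≤ a := by
    intro a ha
    rw [hl', List.mem_map] at ha
    obtain ⟨d, hd, rfl⟩ := ha
    obtain ⟨b, hb⟩ := hev d hd
    have := hpos d hd
    omega
  have hl'2 : Fintype.card F ≤ 3 → ∀ a ∈ l', 2 ≤ a := by
    intro hq a ha
    rw [hl', List.mem_map] at ha
    obtain ⟨d, hd, rfl⟩ := ha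
    obtain ⟨b, hb⟩ := hev d hd
    have := hpos d hd
    have := h4 hq d hd
    omega
  -- the order of the centraliser
  have hCc : Nat.card C ≤ cnt ρ T ⊤ := by
    have hinj : Function.Injective fun u : C => (ρ (u : symplecticGroup (Fin m) F)).domRestrict
        (⊤ : Submodule F (Fin m ⊕ Fin m → F)) := by
      intro a b hab
      apply Subtype.ext
      apply hTS.inj
      apply LinearMap.ext
      intro v
      exact congrArg (fun g : (⊤ : Submodule F (Fin m ⊕ Fin m → F)) →ₗ[F] (Fin m ⊕ Fin m → F) => g ⟨v, trivial⟩) hab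
    rw [cnt, Nat.card_congr (Equiv.ofInjective _ hinj)]
  obtain ⟨f, hpp, hf⟩ := FiniteField.card F p
  obtain ⟨B', K', hB', hidx, hPK, hK'⟩ := Cfsg.Agent.H462.DPK.cfg_bound hna hC
  have hnum := Cfsg.Agent.H491.DP.num (q := Fintype.card F) (p := p) (e := f) (n := m) (r := r) (w := w) (k := k)
    (l := l') hf hpp f.pos hm3 hsum hl'1 hl'2 hr hr3 hkm hw
  have hge := index_ge hm3 e hB'
  have hout := card_out hna hm3 e hpp f.pos hf
  have hPK' := hM K' hK' hPK
  have hbound : Nat.card P * Nat.card K' ≤ (l'.map fun a => Fintype.card F ^ a + 1).prod * r ^ w := by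
    rw [hprod, ← hrw]
    refine hPK'.trans ?_
    rw [mul_comm (C.relIndex H)]
    exact Nat.mul_le_mul_right _ (hCc.trans hl3)
  rw [hout] at hidx
  have hidx' := hidx.trans (Nat.mul_le_mul_right _ hbound)
  have hq2 : 2 ≤ Fintype.card F := Fintype.one_lt_card
  rcases hq2.eq_or_lt with h | h
  · have h1 := hnum.2 h.symm
    have h2 := hge.2 h.symm
    have hp2 : (p : ℕ) ^ (f : ℕ) = 2 := by rw [← hf]; exact h.symm
    have hf1 : (f : ℕ) = 1 := by
      by_contra hne
      have hf2 : 2 ≤ (f : ℕ) := by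
        have := f.pos
        omega
      have h3 : 2 ^ 2 ≤ p ^ (f : ℕ) :=
        (Nat.pow_le_pow_left hpp.two_le 2).trans (Nat.pow_le_pow_right hpp.pos hf2)
      omega
    rw [← h, hf1] at hidx'
    have h5 : Nat.gcd 2 (2 - 1) * 1 = 1 := by decide
    rw [h5, mul_one, h] at hidx'
    omega
  · have h1 := hnum.1 h
    have h2 := hge.1 h
    omega

end Cfsg.Agent.H602.DP
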