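import Cfsg.Agent.H572.RV.Rows
import Cfsg.Agent.H817.DPi.Def

/-!
# S4247, classical groups in characteristic not in `π`: definitions (helper602)

`TS ρ f Q t T` : `ρ : G → GL(V)` a full isometry group, `T` an abelian `t`-subgroup of `G` (`t` odd, `t ≠ char F`) which
contains all `t`-elements of `C_G(T)`.

`Mn ρ f T U` : `U` is a minimal nondegenerate `T`-invariant subspace on which `T` acts nontrivially.

`GV U` : the elements of `Sp_2m(F)` which are trivial on the orthogonal space of `U`.  `YS φ p T` : the subgroup generated by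
the `p`-elements which centralise `φ T`.

`cnt ρ T U` : the number of restrictions to `U` of the elements of `C_G(T)`.
-/

set_option autoImplicit false
set_option linter.unusedSectionVars false

namespace Cfsg.Agent.H602.DP

open Module Cfsg.Agent.H167.OP Cfsg.Agent.H170.HL Cfsg.Agent.H572.RV

variable {F : Type*} [Field F] [Finite F] {V : Type*} [AddCommGroup V] [Module F V] [Finite V]
  [FiniteDimensional F V] {G : Type*} [Group G] [Finite G]

structure TS (ρ : Representation F G V) (f : V →ₗ[F] V →ₗ[F] F) (Q : V → F) (t : ℕ) (T : Subgroup G) : Prop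
    extends IsoG ρ f Q where
  ht : t.Prime
  hto : Odd t
  htF : (t : F) ≠ 0
  hT : IsPGroup t T
  ab : ∀ a ∈ T, ∀ b ∈ T, a * b = b * a
  mx : ∀ y : G, (∃ k : ℕ, y ^ t ^ k = 1) → (∀ z ∈ T, z * y = y * z) → y ∈ T

/-- `T`-invariant subspaces -/
def Inv (ρ : Representation F G V) (T : Subgroup G) (U : Submodule F V) : Prop := ∀ z ∈ T, ∀ u ∈ U, ρ z u ∈ U

/-- minimal nondegenerate subspaces with a nontrivial action -/
structure Mn (ρ : Representation F G V) (f : V →ₗ[F] V →ₗ[F] F) (T : Subgroup G) (U : Submodule F V) : Prop where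
  inv : Inv ρ T U
  nd : ND f U
  act : ∃ z ∈ T, ∃ u ∈ U, ρ z u ≠ u
  min : ∀ X ≤ U, Inv ρ T X → ND f X → X = ⊥ ∨ X = U

/-- the number of restrictions to `U` of the elements of `C_G(T)` -/
noncomputable def cnt (ρ : Representation F G V) (T : Subgroup G) (U : Submodule F V) : ℕ :=
  Nat.card (Set.range fun u : Subgroup.centralizer (T : Set G) => (ρ (u : G)).domRestrict U)

section sp

open Matrix Subgroup

variable {F : Type*} [Field F] {m : ℕ}

/-- the elements which are trivial on the orthogonal space of `U` -/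
def GV (U : Submodule F (Fin m ⊕ Fin m → F)) : Subgroup (symplecticGroup (Fin m) F) where
  carrier := {g | ∀ w ∈ Orth (SpRow.frm m F) U, rep (SpRow.inc m F) g w = w}
  mul_mem' := fun {a b} ha hb w hw => by
    show rep (SpRow.inc m F) (a * b) w = w
    rw [mul_ap, hb w hw, ha w hw]
  one_mem' := fun w _ => one_ap _ w
  inv_mem' := fun {a} ha w hw => by
    show rep (SpRow.inc m F) a⁻¹ w = w
    nth_rewrite 1 [← ha w hw]
    rw [inv_ap]

/-- the subgroup of `S` generated by the `p`-elements which centralise `φ T` -/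
def YS {S : Type*} [Group S] (φ : symplecticGroup (Fin m) F →* S) (p : ℕ) (T : Subgroup (symplecticGroup (Fin m) F)) :
    Subgroup S :=
  closure {y | (∃ j : ℕ, y ^ p ^ j = 1) ∧ ∀ z ∈ T, φ z * y = y * φ z}

end sp

end Cfsg.Agent.H602.DP
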