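import Cfsg.Agent.H602.DP.Def

/-!
# Minimal nondegenerate subspaces of an abelian Sylow subgroup (S4247, helper602)
-/

set_option autoImplicit false
set_option linter.unusedSectionVars false

namespace Cfsg.Agent.H602.DP

open Module Cfsg.Agent.H167.OP Cfsg.Agent.H170.HL Cfsg.Agent.H572.RV

variable {F : Type*} [Field F] [Finite F] {V : Type*} [AddCommGroup V] [Module F V] [Finite V]
  [FiniteDimensional F V] {G : Type*} [Group G] [Finite G]
  {ρ : Representation F G V} {f : V →ₗ[F] V →ₗ[F] F} {Q : V → F} {t : ℕ} {T : Subgroup G} {U : Submodule F V}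

theorem TS.card_ne (h : TS ρ f Q t T) : (Nat.card T : F) ≠ 0 := by
  have := Fact.mk h.ht
  obtain ⟨n, hn⟩ := IsPGroup.iff_card.mp h.hT
  rw [hn, Nat.cast_pow]
  exact pow_ne_zero _ h.htF

theorem TS.card_odd (h : TS ρ f Q t T) : Odd (Nat.card T) := by
  have := Fact.mk h.ht
  obtain ⟨n, hn⟩ := IsPGroup.iff_card.mp h.hT
  rw [hn]
  exact h.hto.pow

theorem Inv.map_eq {X : Submodule F V} (hX : Inv ρ T X) {z : G} (hz : z ∈ T) : X.map (ρ z) = X := by
  apply map_eq_of_le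
  rintro _ ⟨x, hx, rfl⟩
  exact hX z hz x hx

theorem Inv.inf {X Y : Submodule F V} (hX : Inv ρ T X) (hY : Inv ρ T Y) : Inv ρ T (X ⊓ Y) :=
  fun z hz u hu => ⟨hX z hz u hu.1, hY z hz u hu.2⟩

theorem Inv.orth (h : IsoG ρ f Q) {X : Submodule F V} (hX : Inv ρ T X) : Inv ρ T (Orth f X) := by
  intro z hz u hu x hx
  have h1 := hu _ (hX z⁻¹ (T.inv_mem hz) x hx)
  have h2 := h.iso z (ρ z⁻¹ x) u
  rw [ap_inv] at h2
  rw [h2, h1]

/-- Maschke -/
theorem maschke (hT : (Nat.card T : F) ≠ 0) {A : Submodule F V} (hA : Inv ρ T A) :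
    ∃ C, Inv ρ T C ∧ IsCompl A C := by
  classical
  have : Fintype T := Fintype.ofFinite _
  obtain ⟨C0, hC0⟩ := A.exists_isCompl
  let P : Module.End F V := A.subtype ∘ₗ A.projectionOnto C0 hC0
  have hP1 : ∀ v, P v ∈ A := fun v => (A.projectionOnto C0 hC0 v).2
  have hP2 : ∀ a ∈ A, P a = a := by
    intro a ha
    have h2 : A.projectionOnto C0 hC0 a = ⟨a, ha⟩ := Submodule.projectionOnto_apply_of_mem_left hC0 ha
    show ((A.projectionOnto C0 hC0 a : A) : V) = a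
    rw [h2]
  let B : Module.End F V := (Nat.card T : F)⁻¹ • ∑ z : T, ρ (z : G) ∘ₗ P ∘ₗ ρ ((z : G)⁻¹)
  have hB : ∀ v, B v = (Nat.card T : F)⁻¹ • ∑ z : T, ρ (z : G) (P (ρ ((z : G)⁻¹) v)) := by
    intro v
    simp [B, LinearMap.sum_apply]
  have hB1 : ∀ v, B v ∈ A := by
    intro v
    rw [hB]
    exact A.smul_mem _ (A.sum_mem fun z _ => hA z z.2 _ (hP1 _))
  have hB2 : ∀ a ∈ A, B a = a := by
    intro a ha
    rw [hB]
    have h1 : ∀ z : T, ρ (z : G) (P (ρ ((z : G)⁻¹) a)) = a := by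
      intro z
      rw [hP2 _ (hA _ (T.inv_mem z.2) a ha), ap_inv]
    rw [Finset.sum_congr rfl fun z _ => h1 z, Finset.sum_const, Finset.card_univ, ← Nat.card_eq_fintype_card,
      ← Nat.cast_smul_eq_nsmul F, smul_smul, inv_mul_cancel₀ hT, one_smul]
  have hB3 : ∀ z ∈ T, ∀ v, B (ρ z v) = ρ z (B v) := by
    intro z hz v
    rw [hB, hB, map_smul, map_sum]
    congr 1
    refine Fintype.sum_equiv (Equiv.mulLeft (⟨z, hz⟩ : T)⁻¹) _ _ fun x => ?_
    rw [Equiv.coe_mulLeft]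
    show ρ (x : G) (P (ρ ((x : G)⁻¹) (ρ z v))) = ρ z (ρ (z⁻¹ * (x : G)) (P (ρ ((z⁻¹ * (x : G))⁻¹) v)))
    rw [mul_inv_rev, inv_inv, mul_ap, ap_inv, mul_ap ρ _ z]
  refine ⟨LinearMap.ker B, ?_, ?_⟩
  · intro z hz u hu
    rw [LinearMap.mem_ker] at hu ⊢
    rw [hB3 z hz, hu, map_zero]
  · constructor
    · rw [disjoint_iff, eq_bot_iff]
      rintro v ⟨hv1, hv2⟩
      rw [SetLike.mem_coe, LinearMap.mem_ker, hB2 v hv1] at hv2
      exact hv2
    · rw [codisjoint_iff, eq_top_iff]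
      intro v _
      rw [Submodule.mem_sup]
      refine ⟨B v, hB1 v, v - B v, ?_, by abel⟩
      rw [LinearMap.mem_ker, map_sub, hB2 _ (hB1 v), sub_self]

theorem maschke' (hT : (Nat.card T : F) ≠ 0) {A X : Submodule F V} (hA : Inv ρ T A) (hX : Inv ρ T X) (hAX : A ≤ X) :
    ∃ C ≤ X, Inv ρ T C ∧ A ⊓ C = ⊥ ∧ ∀ x ∈ X, ∃ a ∈ A, ∃ c ∈ C, x = a + c := by
  obtain ⟨C, hC, hAC⟩ := maschke hT hA
  refine ⟨C ⊓ X, inf_le_right, hC.inf hX, ?_, ?_⟩
  · rw [eq_bot_iff]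
    intro v hv
    have : v ∈ A ⊓ C := ⟨hv.1, hv.2.1⟩
    rwa [hAC.inf_eq_bot] at this
  · intro x hx
    have : x ∈ A ⊔ C := by rw [hAC.sup_eq_top]; trivial
    rw [Submodule.mem_sup] at this
    obtain ⟨a, ha, c, hc, rfl⟩ := this
    refine ⟨a, ha, c, ⟨hc, ?_⟩, rfl⟩
    have := X.sub_mem hx (hAX ha)
    rwa [add_sub_cancel_left] at this

/-- **A1** -/
theorem isotropic_of_proper (h : TS ρ f Q t T) (hU : Mn ρ f T U) {X : Submodule F V} (hX : X ≤ U)
    (hi : Inv ρ T X) (hne : X ≠ U) : ∀ x ∈ X, ∀ y ∈ X, f x y = 0 := by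
  have hR : Inv ρ T (X ⊓ Orth f X) := hi.inf (hi.orth h.toIsoG)
  obtain ⟨C, hCX, hC, hdis, hdec⟩ := maschke' h.card_ne hR hi inf_le_left
  have hnd : ND f C := by
    intro u hu hx
    have h1 : u ∈ X ⊓ Orth f X := by
      refine ⟨hCX hu, ?_⟩
      intro x hxX
      obtain ⟨r, hr, c, hc, rfl⟩ := hdec x hxX
      rw [map_add, LinearMap.add_apply, hx c hc, add_zero]
      exact h.toIsoG.refl _ _ (hr.2 u (hCX hu))
    have h2 : u ∈ (X ⊓ Orth f X) ⊓ C := ⟨h1, hu⟩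
    rwa [hdis, Submodule.mem_bot] at h2
  rcases hU.min C (hCX.trans hX) hC hnd with h1 | h1
  · intro x hx y hy
    obtain ⟨r, hr, c, hc, rfl⟩ := hdec y hy
    rw [h1, Submodule.mem_bot] at hc
    rw [hc, add_zero]
    exact hr.2 x hx
  · exact absurd (le_antisymm hX (h1 ▸ hCX)) hne

theorem pow_ap' {z : G} {v : V} (h : ρ z v = v) (n : ℕ) : ρ (z ^ n) v = v := pow_of_fixed h n

/-- elements of odd order -/
theorem fix_of_sq (hT : Odd (Nat.card T)) {z : G} (hz : z ∈ T) {v : V} (hv : ρ (z * z) v = v) : ρ z v = v := by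
  obtain ⟨m, hm⟩ := hT
  have h1 : z ^ Nat.card T = 1 := by
    have := pow_card_eq_one' (x := (⟨z, hz⟩ : T))
    exact congrArg Subtype.val this
  have h2 : z = (z * z) ^ (m + 1) := by
    rw [← pow_two, ← pow_mul, mul_add, mul_one, show 2 * m + 2 = Nat.card T + 1 by omega, pow_succ, h1, one_mul]
  rw [h2]
  exact pow_ap' hv _

/-- **A2** -/
theorem eigen (h : TS ρ f Q t T) (hU : Mn ρ f T U) {u : G} (hu : ∀ z ∈ T, z * u = u * z)
    (huU : ∀ x ∈ U, ρ u x ∈ U) {c : F} (hc : c * c = 1) :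
    (∀ x ∈ U, ρ u x = c • x → x = 0) ∨ ∀ x ∈ U, ρ u x = c • x := by
  classical
  have hcomm : ∀ z ∈ T, ∀ v, ρ u (ρ z v) = ρ z (ρ u v) := by
    intro z hz v
    rw [← mul_ap, ← mul_ap, hu z hz]
  have hcs : ∀ v : V, c • c • v = v := fun v => by rw [smul_smul, hc, one_smul]
  obtain ⟨ε, hε, hsym⟩ := h.sym
  let ν : Module.End F V := c • ρ u - 1
  have hν : ∀ v, ν v = c • ρ u v - v := fun v => rfl
  have hνT : ∀ z ∈ T, ∀ v, ν (ρ z v) = ρ z (ν v) := by
    intro z hz v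
    rw [hν, hν, hcomm z hz, map_sub, map_smul]
  let N : Submodule F V := U ⊓ LinearMap.ker ν
  have hN : ∀ x, x ∈ N ↔ x ∈ U ∧ ρ u x = c • x := by
    intro x
    show x ∈ U ∧ ν x = 0 ↔ _
    rw [hν]
    constructor
    · rintro ⟨h1, h2⟩
      refine ⟨h1, ?_⟩
      have h3 := sub_eq_zero.mp h2
      have h4 : c • c • ρ u x = c • x := congrArg (fun w => c • w) h3
      rwa [hcs] at h4
    · rintro ⟨h1, h2⟩
      refine ⟨h1, ?_⟩
      rw [h2, hcs, sub_self]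
  by_contra hcon
  push Not at hcon
  obtain ⟨⟨n₀, hn₀U, hn₀, hn₀0⟩, x₁, hx₁, hx₁'⟩ := hcon
  have hNU : N ≤ U := inf_le_left
  have hNne : N ≠ U := by
    intro h0
    rw [← h0, hN] at hx₁
    exact hx₁' hx₁.2
  have hNi : Inv ρ T N := by
    intro z hz x hx
    rw [hN] at hx ⊢
    exact ⟨hU.inv z hz x hx.1, by rw [hcomm z hz, hx.2, map_smul]⟩
  have hNiso := isotropic_of_proper h hU hNU hNi hNne
  -- the image
  have hνU : ∀ x ∈ U, ν x ∈ U := fun x hx => U.sub_mem (U.smul_mem _ (huU x hx)) hx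
  let M : Submodule F V := U.map ν
  have hMU : M ≤ U := by
    rintro _ ⟨x, hx, rfl⟩
    exact hνU x hx
  have hMi : Inv ρ T M := by
    rintro z hz _ ⟨x, hx, rfl⟩
    exact ⟨ρ z x, hU.inv z hz x hx, hνT z hz x⟩
  have hNM : ∀ y ∈ N, ∀ x ∈ M, f y x = 0 := by
    rintro y hy _ ⟨x, hx, rfl⟩
    rw [hν, map_sub, map_smul]
    have h1 := h.iso u y x
    rw [((hN y).mp hy).2, map_smul, LinearMap.smul_apply] at h1
    rw [h1, sub_self]
  have hMne : M ≠ U := by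
    intro h0
    apply hn₀0
    apply hU.nd _ hn₀U
    intro x hx
    apply h.toIsoG.refl
    exact hNM n₀ ((hN _).mpr ⟨hn₀U, hn₀⟩) x (by rw [h0]; exact hx)
  have hMiso := isotropic_of_proper h hU hMU hMi hMne
  -- `ν ν = 0`
  have hνν : ∀ x ∈ U, ν x ∈ N := by
    intro y hy
    refine ⟨hνU y hy, ?_⟩
    show ν (ν y) = 0
    -- `ν ν y = c u (c u y - 2 y) + ...`
    have h1 : ρ u⁻¹ (ν (ν y)) = 0 := by
      have h2 : ρ u⁻¹ (ν (ν y)) ∈ U := by
        -- `u⁻¹` preserves `U`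
        have h3 : U.map (ρ u) = U := map_eq_of_le (by rintro _ ⟨x, hx, rfl⟩; exact huU x hx)
        exact mem_of_map (map_inv_of_map h3) (hνU _ (hνU y hy))
      apply hU.nd _ h2
      intro x hx
      have h3 := hMiso (ν x) ⟨x, hx, rfl⟩ (ν y) ⟨y, hy, rfl⟩
      -- both in terms of `f x (u y)`, `f x (u⁻¹ y)`, `f x y`
      have h4 : f (ρ u x) y = f x (ρ u⁻¹ y) := by
        have := h.iso u x (ρ u⁻¹ y)
        rwa [ap_inv] at this
      have h5 := h.iso u x y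
      rw [hν, hν, map_sub, map_sub, map_smul, LinearMap.sub_apply, LinearMap.sub_apply, map_smul,
        LinearMap.smul_apply, LinearMap.smul_apply, h5, h4] at h3
      simp only [smul_eq_mul] at h3
      have h6 : ρ u⁻¹ (ν (ν y)) = ρ u y - (2 * c) • y + ρ u⁻¹ y := by
        rw [hν, hν, map_sub, map_smul, inv_ap, smul_sub, hcs, map_sub, map_smul, inv_ap]
        module
      rw [h6, map_add, map_sub, map_smul, smul_eq_mul]
      linear_combination (-c) * h3 + (-(f x) (ρ u y) - (f x) (ρ u⁻¹ y) + (f x y) * c) * hc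
    have h2 := congrArg (ρ u) h1
    rwa [ap_inv, map_zero] at h2
  -- a complement
  obtain ⟨N', hN'U, hN'i, hdis, hdec⟩ := maschke' h.card_ne hNi hU.inv hNU
  have hN'ne : N' ≠ U := by
    intro h0
    apply hn₀0
    have h1 : n₀ ∈ N ⊓ N' := ⟨(hN _).mpr ⟨hn₀U, hn₀⟩, by rw [h0]; exact hn₀U⟩
    rwa [hdis, Submodule.mem_bot] at h1
  have hN'iso := isotropic_of_proper h hU hN'U hN'i hN'ne
  have hN'lt : finrank F N' < finrank F U := Submodule.finrank_lt_finrank_of_lt (lt_of_le_of_ne hN'U hN'ne)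
  -- the submodules `{x + z ν x}`
  have key : ∀ z ∈ T, ∀ x ∈ N', ∀ y ∈ N', f x (ρ z (ν y)) = - (ε * f y (ρ z (ν x))) := by
    intro z hz x hx y hy
    let X : Submodule F V := N'.map ((1 : Module.End F V) + ρ z ∘ₗ ν)
    have hXm : ∀ x ∈ N', x + ρ z (ν x) ∈ X := fun x hx => ⟨x, hx, rfl⟩
    have hXU : X ≤ U := by
      rintro _ ⟨x, hx, rfl⟩
      exact U.add_mem (hN'U hx) (hU.inv z hz _ (hνU _ (hN'U hx)))
    have hXi : Inv ρ T X := by
      rintro z' hz' _ ⟨x, hx, rfl⟩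
      refine ⟨ρ z' x, hN'i z' hz' x hx, ?_⟩
      show ρ z' x + ρ z (ν (ρ z' x)) = ρ z' (x + ρ z (ν x))
      rw [hνT z' hz', map_add, ← mul_ap, ← mul_ap, h.ab z hz z' hz']
    have hXne : X ≠ U := by
      intro h0
      have h1 : finrank F X ≤ finrank F N' := Submodule.finrank_map_le _ _
      rw [h0] at h1
      omega
    have h1 := isotropic_of_proper h hU hXU hXi hXne _ (hXm x hx) _ (hXm y hy)
    have h2 : f (ρ z (ν x)) (ρ z (ν y)) = 0 := by
      rw [h.iso]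
      exact hNiso _ (hνν x (hN'U hx)) _ (hνν y (hN'U hy))
    rw [map_add, map_add, LinearMap.add_apply, LinearMap.add_apply, hN'iso x hx y hy, h2, zero_add, add_zero] at h1
    rw [hsym (ρ z (ν x)) y] at h1
    linear_combination h1
  -- `T` is trivial on `N'`
  have hN'T : ∀ z ∈ T, ∀ y ∈ N', ρ z y = y := by
    intro z hz y hy
    apply fix_of_sq h.card_odd hz
    have hyi : ρ z⁻¹ y ∈ N' := hN'i _ (T.inv_mem hz) y hy
    have hw : ν (ρ z y - ρ z⁻¹ y) = 0 := by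
      have hwN : ν (ρ z y - ρ z⁻¹ y) ∈ N := hνν _ (U.sub_mem (hN'U (hN'i z hz y hy)) (hN'U hyi))
      apply hU.nd _ (hNU hwN)
      intro x hx
      obtain ⟨n, hn, x', hx', rfl⟩ := hdec x hx
      rw [map_add, LinearMap.add_apply, hNiso n hn _ hwN, zero_add, map_sub, map_sub, hνT z hz,
        key z hz x' hx' y hy]
      have h1 := key 1 T.one_mem x' hx' _ hyi
      rw [one_ap, one_ap] at h1
      rw [h1]
      have h2 := h.iso z (ρ z⁻¹ y) (ν x')
      rw [ap_inv] at h2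
      rw [h2]
      ring
    have h1 : ρ z y - ρ z⁻¹ y ∈ N ⊓ N' :=
      ⟨⟨U.sub_mem (hN'U (hN'i z hz y hy)) (hN'U hyi), hw⟩, N'.sub_mem (hN'i z hz y hy) hyi⟩
    rw [hdis, Submodule.mem_bot, sub_eq_zero] at h1
    rw [mul_ap, h1, ap_inv]
  -- `T` is trivial on `N`
  have hNT : ∀ z ∈ T, ∀ n ∈ N, ρ z n = n := by
    intro z hz n hn
    rw [← sub_eq_zero]
    have h1 : ρ z n - n ∈ N := N.sub_mem (hNi z hz n hn) hn
    apply hU.nd _ (hNU h1)
    intro x hx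
    obtain ⟨n', hn', x', hx', rfl⟩ := hdec x hx
    rw [map_add, LinearMap.add_apply, hNiso n' hn' _ h1, zero_add, map_sub]
    have h2 := h.iso z x' n
    rw [hN'T z hz x' hx'] at h2
    rw [h2, sub_self]
  obtain ⟨z, hz, x, hx, hne⟩ := hU.act
  obtain ⟨n, hn, x', hx', rfl⟩ := hdec x hx
  apply hne
  rw [map_add, hNT z hz n hn, hN'T z hz x' hx']

/-- **A3** -/
theorem map_mem (h : TS ρ f Q t T) (hU : Mn ρ f T U) {u : G} (hu : ∀ z ∈ T, z * u = u * z) :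
    ∀ x ∈ U, ρ u x ∈ U := by
  obtain ⟨z, hz, x₀, hx₀, hne⟩ := hU.act
  obtain ⟨k, hk⟩ := h.toIsoG.exists_part hU.nd (hU.inv z hz)
  have hzt : ∃ m : ℕ, z ^ t ^ m = 1 := by
    obtain ⟨m, hm⟩ := h.hT ⟨z, hz⟩
    exact ⟨m, congrArg Subtype.val hm⟩
  have hkt := hk.tel (t := t) h.toIsoG hU.nd (hU.inv z hz) hzt
  have hkc : ∀ z' ∈ T, z' * k = k * z' := by
    intro z' hz'
    have h1 := hk.conj h.toIsoG z'
    rw [hU.inv.map_eq hz', h.ab z' hz' z hz, mul_inv_cancel_right] at h1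
    have h2 := h1.unique h.inj hU.nd hk
    calc z' * k = (z' * k * z'⁻¹) * z' := by group
      _ = k * z' := by rw [h2]
  have hkT : k ∈ T := h.mx k hkt hkc
  have hsU : sp ρ k ≤ U := hk.sp_le hU.nd (hU.inv z hz)
  have hsi : Inv ρ T (sp ρ k) := fun z' hz' v hv => map_mem_of_comm (hkc z' hz') hv
  have hsn : ND f (sp ρ k) := nd_sp h.toIsoG h.htF hkt
  rcases hU.min _ hsU hsi hsn with h1 | h1
  · exfalso
    rw [sp_eq_bot h.inj] at h1
    apply hne
    rw [← hk.1 x₀ hx₀, h1, one_ap]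
  · intro x hx
    rw [← h1] at hx ⊢
    exact map_mem_of_comm (hu k hkT).symm hx

end Cfsg.Agent.H602.DP
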